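import Groth.Agent.Curves16.OmegaRank
import Groth.Agent.Synt29.OmegaMaps
import Groth.Agent.Lib.InvEnd
import Groth.Agent.PicClLib.Basic
import Groth.Agent.QCoh.LocFree

/-! Maps out of locally free modules on integral schemes are injective if they are generically so. -/

set_option autoImplicit false
set_option linter.style.haveILetI false

noncomputable section

universe u

open CategoryTheory CategoryTheory.Limits AlgebraicGeometry TopologicalSpace Opposite

namespace Groth.Agent.NSVar98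

variable {X : Scheme.{u}}

theorem isFinLocFreeOfRank_pullback {Y : Scheme.{u}} (g : Y ⟶ X) {n : ℕ} {M : X.Modules}
    (hM : FlatMod.IsFinLocFreeOfRank n M) :
    FlatMod.IsFinLocFreeOfRank n ((Scheme.Modules.pullback g).obj M) := by
  intro y
  obtain ⟨U, hy, ⟨e⟩⟩ := hM (g y)
  have h : (g ⁻¹ᵁ U).ι ≫ g = (g ∣_ U) ≫ U.ι := (morphismRestrict_ι g U).symm
  obtain ⟨e'⟩ := PicClLib.nonempty_pullback_structureModule (g ∣_ U)
  haveI : PreservesColimitsOfShape (Discrete (Fin n)) (Scheme.Modules.pullback (g ∣_ U)) :=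
    ((Scheme.Modules.pullbackPushforwardAdjunction (g ∣_ U)).leftAdjoint_preservesColimits).preservesColimitsOfShape
  refine ⟨g ⁻¹ᵁ U, hy, ⟨?_⟩⟩
  exact (Scheme.Modules.restrictFunctorIsoPullback (g ⁻¹ᵁ U).ι).app _ ≪≫
    (Scheme.Modules.pullbackComp (g ⁻¹ᵁ U).ι g).app M ≪≫
    (Scheme.Modules.pullbackCongr h).app M ≪≫
    ((Scheme.Modules.pullbackComp (g ∣_ U) U.ι).app M).symm ≪≫
    (Scheme.Modules.pullback (g ∣_ U)).mapIso (((Scheme.Modules.restrictFunctorIsoPullback U.ι).app M).symm ≪≫ e) ≪≫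
    PreservesCoproduct.iso (Scheme.Modules.pullback (g ∣_ U)) _ ≪≫ Sigma.mapIso fun _ => e'

theorem mono_of_stalk_generic [IsIntegral X] {M N : X.Modules} {n : ℕ}
    (hM : FlatMod.IsFinLocFreeOfRank n M) (f : M ⟶ N)
    (h : Function.Injective ((DerSch.stalkFunctor X (genericPoint X)).map f)) : Mono f := by
  refine InvEnd.mono_of_app_injective f fun W => ?_
  rw [injective_iff_map_eq_zero]
  intro s hs
  choose U hU e using hM
  refine TopCat.Sheaf.eq_of_locally_eq' ⟨M.presheaf, M.isSheaf⟩ (fun x : W => W ⊓ U x) W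
    (fun x => homOfLE inf_le_left) (fun y hy => Opens.mem_iSup.mpr ⟨⟨y, hy⟩, hy, hU y⟩) _ _ fun x => ?_
  refine Eq.trans ?_ (map_zero _).symm
  obtain ⟨b, hb⟩ := H23.Frame.exists_frame (e x.1).some
  obtain ⟨c, hc⟩ := (hb (W ⊓ U x.1) inf_le_right).2 (M.presheaf.map (homOfLE inf_le_left).op s)
  have hηV : genericPoint X ∈ W ⊓ U x.1 :=
    ((genericPoint_spec X).specializes (Set.mem_univ x.1)).mem_open (W ⊓ U x.1).2 ⟨x.2, hU x.1⟩
  have h0 : M.presheaf.germ W (genericPoint X) hηV.1 s = 0 := by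
    apply h
    refine (DerSch.stalkFunctor_map_germ (genericPoint X) f W hηV.1 s).trans ?_
    rw [hs, map_zero]
    exact (map_zero ((DerSch.stalkFunctor X (genericPoint X)).map f).hom).symm
  obtain ⟨O, hηO, i, j, hij⟩ := M.presheaf.germ_eq (genericPoint X) hηV.1 hηV.1 s 0
    (h0.trans (map_zero _).symm)
  haveI : Nonempty ((O ⊓ (W ⊓ U x.1) : X.Opens)) := ⟨⟨_, hηO, hηV⟩⟩
  set O' : X.Opens := O ⊓ (W ⊓ U x.1)
  have hOW : O' ≤ W := inf_le_right.trans inf_le_left
  have h1 : M.presheaf.map (homOfLE hOW).op s = 0 := by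
    have h2 := congrArg (M.presheaf.map (homOfLE (inf_le_left : O' ≤ O)).op) hij
    rw [map_zero, map_zero] at h2
    rw [← ConcreteCategory.comp_apply, ← M.presheaf.map_comp] at h2
    exact h2
  have h3 : H23.Frame.comb M b O' ((inf_le_right : O' ≤ W ⊓ U x.1).trans inf_le_right)
      (fun i => X.presheaf.map (homOfLE (inf_le_right : O' ≤ W ⊓ U x.1)).op (c i)) =
      H23.Frame.comb M b O' ((inf_le_right : O' ≤ W ⊓ U x.1).trans inf_le_right) 0 := by
    have h4 := congrArg (M.presheaf.map (homOfLE (inf_le_right : O' ≤ W ⊓ U x.1)).op) hc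
    rw [← ConcreteCategory.comp_apply, ← M.presheaf.map_comp] at h4
    refine Eq.trans ?_ ((h4.trans h1).trans ?_)
    · simp only [H23.Frame.comb, map_sum]
      refine Finset.sum_congr rfl fun i _ => ?_
      rw [Scheme.Modules.map_smul, ← ConcreteCategory.comp_apply, ← M.presheaf.map_comp]
      rfl
    · simp [H23.Frame.comb]
  have h5 : c = 0 := funext fun i => map_injective_of_isIntegral (X := X)
    (homOfLE (inf_le_right : O' ≤ W ⊓ U x.1))
    ((congrFun ((hb O' _).1 h3) i).trans (map_zero _).symm)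
  rw [← hc, h5]
  simp [H23.Frame.comb]

theorem finrank_stalk_eq {n : ℕ} {M : X.Modules} (hM : FlatMod.IsFinLocFreeOfRank n M) (x : X) :
    Module.finrank (X.presheaf.stalk x) (M.presheaf.stalk x) = n ∧
      Module.Free (X.presheaf.stalk x) (M.presheaf.stalk x) ∧
      Module.Finite (X.presheaf.stalk x) (M.presheaf.stalk x) := by
  have hlf : FlatMod.IsFinLocFree M := fun y => let ⟨W, hy, he⟩ := hM y; ⟨W, n, hy, he⟩
  obtain ⟨U, hxU, ⟨e⟩⟩ := hM x
  obtain ⟨_, ⟨V, hV, rfl⟩, hxV, hle⟩ := X.isBasis_affineOpens.exists_subset_of_mem_open hxU U.2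
  obtain ⟨l⟩ := QCoh.free_sections hV hle e
  exact ⟨QCoh.finrank_stalk_of_freeChart hV (QCoh.isQCoh_of_isFinLocFree hlf) l hxV,
    QCoh.free_stalk_of_isFinLocFree hlf x,
    QCoh.finite_stalk_of_isFT (QCoh.isQCoh_of_isFinLocFree hlf) (QCoh.isFT_of_isFP (QCoh.isFP_of_isFinLocFree hlf)) x⟩

theorem injective_of_surjective_stalk {n : ℕ} {M N : X.Modules} (hM : FlatMod.IsFinLocFreeOfRank n M)
    (hN : FlatMod.IsFinLocFreeOfRank n N) (f : M ⟶ N) (x : X)
    (h : Function.Surjective ((DerSch.stalkFunctor X x).map f)) :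
    Function.Injective ((DerSch.stalkFunctor X x).map f) := by
  obtain ⟨h1, h2, h3⟩ := finrank_stalk_eq hM x
  obtain ⟨h4, h5, h6⟩ := finrank_stalk_eq hN x
  let e : M.presheaf.stalk x ≃ₗ[X.presheaf.stalk x] N.presheaf.stalk x :=
    LinearEquiv.ofFinrankEq _ _ (h1.trans h4.symm)
  have hs : Function.Surjective (e.symm.toLinearMap ∘ₗ ((DerSch.stalkFunctor X x).map f).hom) :=
    e.symm.surjective.comp h
  exact fun p q hpq => OrzechProperty.injective_of_surjective_endomorphism
    (e.symm.toLinearMap ∘ₗ ((DerSch.stalkFunctor X x).map f).hom) hs (congrArg e.symm hpq)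

end Groth.Agent.NSVar98
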