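import Groth.Agent.NSVar98.GenInj
import Mathlib.RingTheory.Unramified.Field
import Mathlib.RingTheory.RingHom.Unramified

/-! The cotangent map of a dominant separable morphism of smooth varieties of equal dimension. -/

set_option autoImplicit false
set_option linter.style.haveILetI false

noncomputable section

universe u

open CategoryTheory CategoryTheory.Limits AlgebraicGeometry IsLocalRing

namespace Groth.Agent.NSVar98

variable {X Y : Scheme.{u}} (φ : X ⟶ Y)

theorem residue_bijective_of_isField (x : X) (h : IsField (X.presheaf.stalk x)) :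
    Function.Bijective (X.residue x).hom := by
  refine ⟨?_, IsLocalRing.residue_surjective⟩
  rw [RingHom.injective_iff_ker_eq_bot]
  exact IsLocalRing.ker_residue.trans (IsLocalRing.isField_iff_maximalIdeal_eq.1 h)

theorem formallyUnramified_stalkMap_generic [IsIntegral X] [IsIntegral Y] (hdom : DenseRange φ.base)
    (hsep : letI := (φ.residueFieldMap (genericPoint X)).hom.toAlgebra
      Algebra.IsSeparable (Y.residueField (φ.base (genericPoint X))) (X.residueField (genericPoint X))) :
    (φ.stalkMap (genericPoint X)).hom.FormallyUnramified := by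
  have hη : φ.base (genericPoint X) = genericPoint Y := by
    haveI : IsDominant φ := ⟨hdom⟩
    have h1 := ((genericPoint_spec X).image φ.continuous)
    rw [Set.image_univ, hdom.closure_range] at h1
    exact h1.eq (genericPoint_spec Y)
  have hX := residue_bijective_of_isField (X := X) (genericPoint X) CurveBundle.isField_stalk_generic
  have hY : IsField (Y.presheaf.stalk (φ.base (genericPoint X))) := by
    rw [hη]; exact CurveBundle.isField_stalk_generic
  have hY' := residue_bijective_of_isField (X := Y) _ hY
  have hu : (φ.residueFieldMap (genericPoint X)).hom.FormallyUnramified := by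
    letI := (φ.residueFieldMap (genericPoint X)).hom.toAlgebra
    exact Algebra.FormallyUnramified.of_isSeparable _ _
  let eX := RingEquiv.ofBijective _ hX
  have heq : (φ.stalkMap (genericPoint X)).hom = eX.symm.toRingHom.comp
      ((φ.residueFieldMap (genericPoint X)).hom.comp (Y.residue (φ.base (genericPoint X))).hom) := by
    refine RingHom.ext fun a => eX.injective ?_
    show eX _ = eX (eX.symm _)
    rw [RingEquiv.apply_symm_apply]
    exact (ConcreteCategory.congr_hom (Scheme.residue_residueFieldMap φ (genericPoint X)) a).symm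
  rw [heq]
  exact RingHom.FormallyUnramified.stableUnderComposition _ _
    (RingHom.FormallyUnramified.stableUnderComposition _ _
      (RingHom.FormallyUnramified.of_surjective hY'.2) hu)
    (RingHom.FormallyUnramified.of_surjective eX.symm.surjective)

theorem mono_diffCompat (k : Type u) [Field k] (pX : X ⟶ Spec (CommRingCat.of k))
    (pY : Y ⟶ Spec (CommRingCat.of k)) (w : φ ≫ pY = pX) [IsIntegral X] [IsIntegral Y] [Smooth pX] [Smooth pY]
    (hdim : topologicalKrullDim X = topologicalKrullDim Y) (hdom : DenseRange φ.base)
    (hu : (φ.stalkMap (genericPoint X)).hom.FormallyUnramified)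
    {ΩY : Y.Modules} {dY : OmegaSh.Der pY ΩY} (hY : OmegaSh.IsUniversal dY)
    {ΩX : X.Modules} {dX : OmegaSh.Der pX ΩX} (hX : OmegaSh.IsUniversal dX)
    (c : (Scheme.Modules.pullback φ).obj ΩY ⟶ ΩX) (hc : OmegaSh.IsDiffCompat φ dY dX c) : Mono c := by
  have hlfX := CurveBundle.isFinLocFreeOfRank_rk (S5018.result pX ((S1488.result pX).1 inferInstance).2 ΩX dX hX)
  have hlfY := CurveBundle.isFinLocFreeOfRank_rk (S5018.result pY ((S1488.result pY).1 inferInstance).2 ΩY dY hY)
  haveI : LocallyOfFiniteType pX := inferInstance
  haveI : Nonempty X := inferInstance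
  have hd : topologicalKrullDim X = (VarDim.deg pX (genericPoint X) : ℕ) :=
    VarDim.topologicalKrullDim_eq_deg_genericPoint pX
  rw [Curves16.rk_universal pX hd hX] at hlfX
  rw [Curves16.rk_universal pY (hdim ▸ hd) hY] at hlfY
  have hpb := isFinLocFreeOfRank_pullback φ hlfY
  subst w
  refine mono_of_stalk_generic hpb c (injective_of_surjective_stalk hpb hlfX c _ ?_)
  obtain ⟨i₁, i₂, hi⟩ := Synt29.OmegaStalk.exists_stalk_square hY hX c hc (genericPoint X)
    (pY.stalkMap (φ (genericPoint X))) rfl (pY.stalkMap (φ (genericPoint X)) ≫ φ.stalkMap (genericPoint X))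
    (Scheme.Hom.stalkMap_comp φ pY (genericPoint X)).symm
  rw [(Synt29.OmegaStalk.stalk_iff i₁ i₂ (hi _ (Synt29.OmegaStalk.baseMap_unit _ _))).2]
  exact (Synt29.OmegaStalk.baseMap_surjective_iff _ _).2 hu

end Groth.Agent.NSVar98
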