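import Groth.Agent.Curves16.OmegaRank
import Groth.Agent.SmoothReg.Omega
import Groth.Agent.SmoothReg.Scheme
import Groth.Agent.AlgStLib.Noetherian
import Groth.Agent.GrpSchLib.SmoothReduced
import Groth.Agent.QCoh.LocFree
import Mathlib.AlgebraicGeometry.Morphisms.FiniteType

/-! A variety over an algebraically closed field is regular iff its differentials are locally free of
rank its dimension. -/

set_option autoImplicit false

noncomputable section

universe u

open CategoryTheory AlgebraicGeometry IsLocalRing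

namespace Groth.Agent.NSVar98

variable {k : Type u} [Field k] [IsAlgClosed k] {X : Scheme.{u}} (f : X ⟶ Spec (CommRingCat.of k))

theorem isRegularLocalRing_stalk_closed [LocallyOfFiniteType f] [IrreducibleSpace X] {n : ℕ}
    (hn : topologicalKrullDim X = (n : WithBot ℕ∞)) {Ω : X.Modules} {d : OmegaSh.Der f Ω}
    (hd : OmegaSh.IsUniversal d) (h : FlatMod.IsFinLocFreeOfRank n Ω) {x : X}
    (hx : IsClosed ({x} : Set X)) : IsRegularLocalRing (X.presheaf.stalk x) := by
  obtain ⟨U, hxU, ⟨e⟩⟩ := h x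
  obtain ⟨_, ⟨V, hV', rfl⟩, hxV, hle⟩ :=
    X.isBasis_affineOpens.exists_subset_of_mem_open (show x ∈ U from hxU) U.2
  have hV : IsAffineOpen V := hV'
  obtain ⟨l⟩ := QCoh.free_sections hV hle e
  have hW : IsAffineOpen (⊤ : (Spec (CommRingCat.of k)).Opens) := isAffineOpen_top _
  have eV : V ≤ f ⁻¹ᵁ ⊤ := by simp
  obtain ⟨lk⟩ := Synt29.OmegaStalk.exists_linearEquiv_sections hd hV hW eV
  let ε : k ≃+* Γ(Spec (CommRingCat.of k), ⊤) :=
    (Scheme.ΓSpecIso (CommRingCat.of k)).symm.commRingCatIsoToRingEquiv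
  letI : Field Γ(Spec (CommRingCat.of k), ⊤) :=
    (MulEquiv.isField (Field.toIsField k) ε.symm.toMulEquiv).toField
  haveI : IsAlgClosed Γ(Spec (CommRingCat.of k), ⊤) := IsAlgClosed.of_ringEquiv k _ ε
  letI := (f.appLE ⊤ V eV).hom.toAlgebra
  haveI : Algebra.FiniteType Γ(Spec (CommRingCat.of k), ⊤) Γ(X, V) :=
    LocallyOfFiniteType.finiteType_appLE f hW hV eV
  let L := lk.symm.trans l
  haveI : Module.Free Γ(X, V) Ω[Γ(X, V)⁄Γ(Spec (CommRingCat.of k), ⊤)] := Module.Free.of_equiv L.symm
  let p := hV.primeIdealOf ⟨x, hxV⟩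
  haveI hp : p.asIdeal.IsMaximal := by
    have hc : IsClosed (hV.fromSpec ⁻¹' {x}) := hx.preimage hV.fromSpec.continuous
    have he : hV.fromSpec ⁻¹' {x} = ({p} : Set (Spec Γ(X, V))) := Set.ext fun q =>
      ⟨fun hq => hV.fromSpec.isOpenEmbedding.injective (hq.trans (hV.fromSpec_primeIdealOf ⟨x, hxV⟩).symm),
        fun hq => (congrArg hV.fromSpec hq).trans (hV.fromSpec_primeIdealOf ⟨x, hxV⟩)⟩
    rw [he] at hc
    exact (PrimeSpectrum.isClosed_singleton_iff_isMaximal p).1 hc
  haveI : IsNoetherianRing Γ(X, V) :=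
    Algebra.FiniteType.isNoetherianRing Γ(Spec (CommRingCat.of k), ⊤) Γ(X, V)
  have hrk := SmoothReg.finrank_cotangentSpace_maximal (k := Γ(Spec (CommRingCat.of k), ⊤))
    (A := Γ(X, V)) p
  haveI : Nontrivial Γ(X, V) := (X.presheaf.germ V x hxV).hom.domain_nontrivial
  have hn' : Module.finrank Γ(X, V) Ω[Γ(X, V)⁄Γ(Spec (CommRingCat.of k), ⊤)] = n := by
    rw [L.finrank_eq]; simp
  rw [Module.rankAtStalk_eq_finrank_of_free, hn'] at hrk
  have hdim : ringKrullDim (Localization.AtPrime p.asIdeal) = (n : WithBot ℕ∞) := by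
    rw [ringKrullDim_eq_of_ringEquiv (SmoothReg.stalkEquiv hV hxV),
      SmoothReg.ringKrullDim_stalk_closedPoint f hx, hn]
  haveI : IsRegularLocalRing (Localization.AtPrime p.asIdeal) :=
    (IsRegularLocalRing.iff_finrank_cotangentSpace _).2 (by rw [hrk, hdim]; rfl)
  exact IsRegularLocalRing.of_ringEquiv (SmoothReg.stalkEquiv hV hxV)

theorem isFinLocFreeOfRank_iff_regular [LocallyOfFiniteType f] [IrreducibleSpace X] {n : ℕ}
    (hn : topologicalKrullDim X = (n : WithBot ℕ∞)) {Ω : X.Modules} {d : OmegaSh.Der f Ω}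
    (hd : OmegaSh.IsUniversal d) :
    FlatMod.IsFinLocFreeOfRank n Ω ↔ ∀ x : X, IsRegularLocalRing (X.presheaf.stalk x) := by
  haveI := AlgStLib.locallyOfFinitePresentation_of_isLocallyNoetherian f
  constructor
  · intro h
    haveI : JacobsonSpace X := LocallyOfFiniteType.jacobsonSpace f
    have htop : f.smoothLocus = ⊤ := by
      by_contra hne
      have hne' : ((f.smoothLocus : Set X)ᶜ).Nonempty := by
        rw [Set.nonempty_compl]
        exact fun e => hne (TopologicalSpace.Opens.coe_eq_univ.1 e)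
      obtain ⟨x, hx, hxc⟩ := nonempty_inter_closedPoints hne' f.smoothLocus.2.isClosed_compl.isLocallyClosed
      exact hx ((SmoothReg.mem_smoothLocus_iff_isRegularLocalRing f x).2
        (isRegularLocalRing_stalk_closed f hn hd h hxc))
    exact fun x => (SmoothReg.mem_smoothLocus_iff_isRegularLocalRing f x).1 (htop ▸ trivial)
  · intro h
    haveI : Smooth f := Scheme.Hom.smoothLocus_eq_top_iff.1 (eq_top_iff.2 fun x _ =>
      (SmoothReg.mem_smoothLocus_iff_isRegularLocalRing f x).2 (h x))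
    haveI : IsReduced X := GrpSchLib.isReduced_of_smooth_field f
    haveI : IsIntegral X := isIntegral_of_irreducibleSpace_of_isReduced X
    have hlf := S5018.result f ((S1488.result f).1 inferInstance).2 Ω d hd
    exact (Curves16.rk_universal f hn hd) ▸ CurveBundle.isFinLocFreeOfRank_rk hlf

end Groth.Agent.NSVar98
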