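import Groth.Agent.NSVar98.OmegaReg
import Groth.Agent.NSVar98.GenInj
import Groth.Agent.Synt29.ConormalSeq
import Groth.Agent.S9370
import Groth.Agent.LimitsH94.LimLocFree
import Groth.Agent.DeformNL.HilbH1
import Groth.Agent.KZ.LFRes
import Groth.Agent.LimitsH94.LimMod
import Mathlib.RingTheory.Smooth.Local
import Mathlib.Algebra.Exact.Basic

/-! Regular closed subschemes of regular varieties. -/

set_option autoImplicit false
set_option linter.style.haveILetI false

noncomputable section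

universe u

open CategoryTheory CategoryTheory.Limits AlgebraicGeometry TopologicalSpace Opposite TensorProduct

namespace Groth.Agent.NSVar98

open Groth.Agent.KFlatLib Groth.Agent.Synt29 Groth.Agent.Synt29.OmegaStalk Groth.Agent.Synt29.ConormalStalk
  Groth.Agent.Synt29.ConormalExact Groth.Agent.Synt29.ConormalSeq

theorem smooth_of_regular {k : Type u} [Field k] [IsAlgClosed k] {X : Scheme.{u}}
    (f : X ⟶ Spec (CommRingCat.of k)) [LocallyOfFiniteType f]
    (h : ∀ x : X, IsRegularLocalRing (X.presheaf.stalk x)) : Smooth f := by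
  haveI := AlgStLib.locallyOfFinitePresentation_of_isLocallyNoetherian f
  exact Scheme.Hom.smoothLocus_eq_top_iff.1 (eq_top_iff.2 fun x _ =>
    (SmoothReg.mem_smoothLocus_iff_isRegularLocalRing f x).2 (h x))

section

variable {Z X S : Scheme.{u}} (i : Z ⟶ X) [IsClosedImmersion i] (f : X ⟶ S) [Smooth f]
  {ΩX : X.Modules} {dX : OmegaSh.Der f ΩX} (hX : OmegaSh.IsUniversal dX)
  {ΩZ : Z.Modules} {dZ : OmegaSh.Der (i ≫ f) ΩZ} (hZ : OmegaSh.IsUniversal dZ)
  {φ : Omega.conormal i ⟶ (Scheme.Modules.pullback i).obj ΩX} (hφ : OmegaSh.IsConormalDiff i dX φ)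

include hX hZ hφ in
theorem formallySmooth_stalk (hfree : FlatMod.IsFinLocFree ΩZ) (hmono : Mono φ) (x : Z) :
    ((i ≫ f).stalkMap x).hom.FormallySmooth := by
  rw [Scheme.Hom.stalkMap_comp]
  let _ := (f.stalkMap (i x)).hom.toAlgebra
  let _ := (i.stalkMap x).hom.toAlgebra
  let _ : Algebra (S.presheaf.stalk (f (i x))) (Z.presheaf.stalk x) :=
    (f.stalkMap (i x) ≫ i.stalkMap x).hom.toAlgebra
  have : IsScalarTower (S.presheaf.stalk (f (i x))) (X.presheaf.stalk (i x))
      (Z.presheaf.stalk x) := IsScalarTower.of_algebraMap_eq' rfl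
  haveI : Algebra.FormallySmooth (S.presheaf.stalk (f (i x))) (X.presheaf.stalk (i x)) :=
    StalkFormal.formallySmooth_stalkMap f ((S1488.result f).1 inferInstance).2 (i x)
  have hsurj : Function.Surjective (algebraMap (X.presheaf.stalk (i x)) (Z.presheaf.stalk x)) :=
    i.stalkMap_surjective x
  obtain ⟨j, hj⟩ := exists_iso_of_eq hZ x (f.stalkMap (i x) ≫ i.stalkMap x)
    (Scheme.Hom.stalkMap_comp i f x).symm
  haveI : Module.Free (Z.presheaf.stalk x) (St ΩZ x) := QCoh.free_stalk_of_isFinLocFree hfree x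
  haveI : Module.Projective (Z.presheaf.stalk x) (St ΩZ x) := Module.Projective.of_free
  haveI hproj : Module.Projective (Z.presheaf.stalk x)
      (Ω[Z.presheaf.stalk x⁄S.presheaf.stalk (f (i x))]) :=
    Module.Projective.of_equiv j.toLinearEquiv.symm
  have hinj : Function.Injective (KaehlerDifferential.kerCotangentToTensor (S.presheaf.stalk (f (i x)))
      (X.presheaf.stalk (i x)) (Z.presheaf.stalk x)) := by
    rw [injective_iff_map_eq_zero]
    intro q hq
    obtain ⟨⟨a, ha⟩, rfl⟩ := Ideal.toCotangent_surjective _ q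
    rw [KaehlerDifferential.kerCotangentToTensor_toCotangent] at hq
    rw [Ideal.toCotangent_eq_zero]
    obtain ⟨m, U, hx, k, rfl, rfl⟩ := exists_rep i (x := x) ha
    have h0 : (DerSch.stalkFunctor Z x).map φ (OmegaStalk.gm (Omega.conormal i) (show x ∈ i ⁻¹ᵁ U from hx) (OmegaSh.conormalSect i U k)) = 0 := by
      have h1 : (DerSch.stalkFunctor Z x).map φ (OmegaStalk.gm _ (show x ∈ i ⁻¹ᵁ U from hx) (OmegaSh.conormalSect i U k)) =
          OmegaStalk.gm _ (show x ∈ i ⁻¹ᵁ U from hx) (OmegaSh.pullSect i ΩX U (dX.app U (OmegaSh.idealSect i.ker U k))) := by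
        refine (DerSch.stalkFunctor_map_germ x φ _ hx _).trans ?_
        exact congrArg _ (hφ U k)
      rw [h1]
      refine (ConcreteCategory.bijective_of_isIso ((stalkPullbackIso i x).app ΩX).hom).1 ?_
      refine (stalkPullbackIso_gm i ΩX x hx _).trans (Eq.trans ?_ (map_zero _).symm)
      rw [← stalkD_germ]
      dsimp only at hq
      clear ha
      generalize X.presheaf.germ U (i x) hx (OmegaSh.idealSect i.ker U k) = a at hq ⊢
      obtain ⟨jX, hjX⟩ := exists_iso_of_eq hX (i x) (f.stalkMap (i x)) rfl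
      let E := (ModuleCat.extendScalars (i.stalkMap x).hom).mapIso jX
      have h3 : E.hom (((ModuleCat.extendRestrictScalarsAdj (i.stalkMap x).hom).unit.app _).hom
          (CommRingCat.KaehlerDifferential.d a)) = 0 := (congrArg E.hom hq).trans (map_zero E.hom.hom)
      rw [← h3, ← hjX a]
      exact (congr($((ModuleCat.extendRestrictScalarsAdj (i.stalkMap x).hom).unit.naturality jX.hom)
        (CommRingCat.KaehlerDifferential.d a)))
    have hz := (injective_iff_map_eq_zero _).1 ((OmegaStalk.mono_iff_stalk φ).1 hmono x) _ h0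
    refine mem_sq_of_unit1_eq_zero i (i.stalkMap_surjective x) ⟨U, hx, k, rfl, rfl⟩ ?_
    exact (stalkPullbackIso_gm i (I i) x hx k).symm.trans ((congrArg _ hz).trans (map_zero _))
  show Algebra.FormallySmooth (S.presheaf.stalk (f (i x))) (Z.presheaf.stalk x)
  exact (Algebra.formallySmooth_iff _ _).2
    ⟨hproj, (Algebra.FormallySmooth.kerCotangentToTensor_injective_iff hsurj).1 hinj⟩

include hX hZ hφ in
theorem finrank_stalk_conormal (hmono : Mono φ) {n q : ℕ} (hnX : FlatMod.IsFinLocFreeOfRank n ΩX)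
    (hnZ : FlatMod.IsFinLocFreeOfRank q ΩZ) (x : Z) :
    Module.finrank (Z.presheaf.stalk x) ((Omega.conormal i).presheaf.stalk x) = n - q ∧
      Module.Free (Z.presheaf.stalk x) ((Omega.conormal i).presheaf.stalk x) := by
  obtain ⟨c, hc, -⟩ := S9370.result f (i ≫ f) i (𝟙 S) (Category.comp_id _) ΩX dX hX ΩZ dZ hZ
  have hexact := (Groth.Agent.KFlatLib.exact_iff_stalk _).1 (exact_conormal_diffCompat f i ΩX dX hX ΩZ dZ hZ φ hφ c hc
    (comp_eq_zero f i ΩX dX ΩZ dZ φ hφ c hc)) x
  rw [ShortComplex.ShortExact.moduleCat_exact_iff_function_exact] at hexact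
  obtain ⟨hr, hMfree, hMfin⟩ := finrank_stalk_eq (isFinLocFreeOfRank_pullback i hnX) x
  obtain ⟨hr', hNfree, hNfin⟩ := finrank_stalk_eq hnZ x
  let a := ((DerSch.stalkFunctor Z x).map φ).hom
  let b := ((DerSch.stalkFunctor Z x).map c).hom
  have hbsurj : Function.Surjective b := (OmegaStalk.epi_iff_stalk c).1 (epi_diffCompat f i ΩX dX hX ΩZ dZ hZ c hc) x
  have hainj : Function.Injective a := (OmegaStalk.mono_iff_stalk φ).1 hmono x
  haveI : Module.Free (Z.presheaf.stalk x) ((DerSch.stalkFunctor Z x).obj ΩZ) := hNfree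
  haveI : Module.Projective (Z.presheaf.stalk x) ((DerSch.stalkFunctor Z x).obj ΩZ) := Module.Projective.of_free
  obtain ⟨s, hs⟩ := Module.projective_lifting_property b LinearMap.id hbsurj
  let e := Function.Exact.splitSurjectiveEquiv hexact hainj ⟨s, hs⟩
  let e' : ((Scheme.Modules.pullback i).obj ΩX).presheaf.stalk x ≃ₗ[Z.presheaf.stalk x]
      (Omega.conormal i).presheaf.stalk x × ΩZ.presheaf.stalk x := e.1
  haveI : Module.Finite (Z.presheaf.stalk x) ((Omega.conormal i).presheaf.stalk x) :=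
    Module.Finite.of_surjective (LinearMap.fst _ _ _ ∘ₗ e'.toLinearMap)
      (Prod.fst_surjective.comp e'.surjective)
  haveI : Module.Projective (Z.presheaf.stalk x) ((Omega.conormal i).presheaf.stalk x) :=
    Module.Projective.of_split (e'.symm.toLinearMap ∘ₗ LinearMap.inl _ _ _)
      (LinearMap.fst _ _ _ ∘ₗ e'.toLinearMap) (by ext z; simp)
  haveI : Module.Free (Z.presheaf.stalk x) ((Omega.conormal i).presheaf.stalk x) :=
    Module.free_of_flat_of_isLocalRing
  refine ⟨?_, inferInstance⟩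
  have h := e'.finrank_eq
  rw [hr, Module.finrank_prod, hr'] at h
  omega

end

theorem regular_iff {k : Type u} [Field k] [IsAlgClosed k] {X Y : Scheme.{u}}
    (f : X ⟶ Spec (CommRingCat.of k)) [LocallyOfFiniteType f] [IrreducibleSpace X]
    (hreg : ∀ x : X, IsRegularLocalRing (X.presheaf.stalk x)) {n q : ℕ}
    (hn : topologicalKrullDim X = (n : WithBot ℕ∞))
    (i : Y ⟶ X) [IsClosedImmersion i] [IrreducibleSpace Y]
    (hq : topologicalKrullDim Y = (q : WithBot ℕ∞))
    {ΩX : X.Modules} {dX : OmegaSh.Der f ΩX} (hX : OmegaSh.IsUniversal dX)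
    {ΩY : Y.Modules} {dY : OmegaSh.Der (i ≫ f) ΩY} (hY : OmegaSh.IsUniversal dY)
    {φ : Omega.conormal i ⟶ (Scheme.Modules.pullback i).obj ΩX} (hφ : OmegaSh.IsConormalDiff i dX φ) :
    ((∀ y : Y, IsRegularLocalRing (Y.presheaf.stalk y)) ↔ (FlatMod.IsFinLocFree ΩY ∧ Mono φ)) ∧
      ((∀ y : Y, IsRegularLocalRing (Y.presheaf.stalk y)) →
        FlatMod.IsFinLocFreeOfRank (n - q) (Omega.conormal i)) := by
  haveI : Smooth f := smooth_of_regular f hreg
  haveI := AlgStLib.locallyOfFinitePresentation_of_isLocallyNoetherian (i ≫ f)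
  have hmono : (∀ y : Y, IsRegularLocalRing (Y.presheaf.stalk y)) → Mono φ := fun h => by
    haveI := smooth_of_regular (i ≫ f) h
    exact ConormalStalk.mono_conormalDiff i f ((S1488.result (i ≫ f)).1 inferInstance).2 ΩX dX hX φ hφ
  refine ⟨⟨fun h => ⟨?_, hmono h⟩, fun h y => ?_⟩, fun h => ?_⟩
  · haveI := smooth_of_regular (i ≫ f) h
    exact S5018.result (i ≫ f) ((S1488.result (i ≫ f)).1 inferInstance).2 ΩY dY hY
  · exact SmoothReg.isRegularLocalRing_stalk_of_mem_smoothLocus (i ≫ f)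
      (Scheme.Hom.mem_smoothLocus.2 (formallySmooth_stalk i f hX hY hφ h.1 h.2 y))
  · have hY' := (isFinLocFreeOfRank_iff_regular (i ≫ f) hq hY).2 h
    have hX' := (isFinLocFreeOfRank_iff_regular f hn hX).2 hreg
    have hst := finrank_stalk_conormal i f hX hY hφ (hmono h) hX' hY'
    haveI : IsLocallyNoetherian X := LocallyOfFiniteType.isLocallyNoetherian f
    have hfp : CohB1.IsFP (Omega.conormal i) :=
      LimitsH94.LM.isFP_pullback i (KZ.LFRes.isFP_of_isCoh (DeformNL.HilbH1.isCoh_idealMod i.ker))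
    have hlf : FlatMod.IsFinLocFree (Omega.conormal i) :=
      QCoh.isFinLocFree_iff.2 ⟨hfp, fun y => (hst y).2⟩
    intro y
    obtain ⟨U, m, hyU, ⟨e⟩⟩ := hlf y
    obtain ⟨_, ⟨V, hV, rfl⟩, hyV, hle⟩ := Y.isBasis_affineOpens.exists_subset_of_mem_open hyU U.2
    obtain ⟨l⟩ := QCoh.free_sections hV hle e
    have hm := (QCoh.finrank_stalk_of_freeChart hV (QCoh.isQCoh_of_isFP hfp) l hyV).symm.trans (hst y).1
    exact ⟨U, hyU, ⟨hm ▸ e⟩⟩

end Groth.Agent.NSVar98
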